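import Groth.Agent.EvalBC7.CxAssoc
import Groth.Agent.KFlatLib.Ring.SymMonoidal
import Groth.Agent.KFlatLib.Ring.EvalTen

/-!
# The comparison `res a ⊗ res b ⟶ res (a ⊗ b)` on derived categories is associative
-/

set_option linter.style.haveILetI false
set_option backward.isDefEq.respectTransparency false

universe u

open CategoryTheory CategoryTheory.Limits MonoidalCategory
open Groth.Agent.KFlatLib

attribute [local instance] HasDerivedCategory.standard

namespace Groth.Agent.EvalBC7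

variable {R R' : Type u} [CommRing R] [CommRing R'] (φ : R →+* R')
  [DTen.HasLTen R] [DTen.HasLTen R'] [DTen.HasResTen φ] [DTen.ResLegIso φ]

/-- Shorthand for the derived tensor product of two morphisms. -/
noncomputable abbrev tm {A : Type u} [CommRing A] [DTen.HasLTen A] {a a' b b' : Dual.D A}
    (f : a ⟶ a') (g : b ⟶ b') : (DTen.LTen₂ A).obj (a, b) ⟶ (DTen.LTen₂ A).obj (a', b') :=
  (DTen.LTen₂ A).map (Prod.mkHom f g)

lemma tm_comp {A : Type u} [CommRing A] [DTen.HasLTen A] {a a' a'' b b' b'' : Dual.D A}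
    (f : a ⟶ a') (f' : a' ⟶ a'') (g : b ⟶ b') (g' : b' ⟶ b'') :
    tm f g ≫ tm f' g' = tm (f ≫ f') (g ≫ g') :=
  ((DTen.LTen₂ A).map_comp _ _).symm

lemma rpf_nat {a a' b b' : Dual.D R'} (f : a ⟶ a') (g : b ⟶ b') :
    tm ((DRing.restrictD φ).map f) ((DRing.restrictD φ).map g) ≫ (DTen.resPF φ).app (a', b') =
      (DTen.resPF φ).app (a, b) ≫ (DRing.restrictD φ).map (tm f g) :=
  (DTen.resPF φ).naturality (Prod.mkHom f g)

lemma rpf_fac (A B : DRing.Cx R') :
    (DTen.resPF φ).app (DerivedCategory.Q.obj A, DerivedCategory.Q.obj B) ≫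
        (DRing.restrictD φ).map ((DTen.ε R').app (A, B)) ≫ (DTen.resFactors φ).hom.app _ =
      tm ((DTen.resFactors φ).hom.app A) ((DTen.resFactors φ).hom.app B) ≫
        (DTen.ε R).app ((DTen.resCx φ).obj A, (DTen.resCx φ).obj B) ≫
        DerivedCategory.Q.map (DTen.resTenCx φ A B) :=
  DTen.resPF_fac φ (A, B)

lemma ε_nat {A : Type u} [CommRing A] [DTen.HasLTen A] {K K' L L' : DRing.Cx A}
    (f : K ⟶ K') (g : L ⟶ L') :
    tm (DerivedCategory.Q.map f) (DerivedCategory.Q.map g) ≫ (DTen.ε A).app (K', L') =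
      (DTen.ε A).app (K, L) ≫ DerivedCategory.Q.map ((f ▷ L) ≫ (K' ◁ g)) :=
  (DTen.ε A).naturality (Prod.mkHom f g)

lemma ε_natR {A : Type u} [CommRing A] [DTen.HasLTen A] (K : DRing.Cx A) {L L' : DRing.Cx A}
    (g : L ⟶ L') :
    tm (𝟙 (DerivedCategory.Q.obj K)) (DerivedCategory.Q.map g) ≫ (DTen.ε A).app (K, L') =
      (DTen.ε A).app (K, L) ≫ DerivedCategory.Q.map (K ◁ g) := by
  have h := ε_nat (𝟙 K) g
  erw [MonoidalCategory.id_whiskerRight, Category.id_comp, CategoryTheory.Functor.map_id] at h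
  exact h

lemma ε_natL {A : Type u} [CommRing A] [DTen.HasLTen A] {K K' : DRing.Cx A} (f : K ⟶ K')
    (L : DRing.Cx A) :
    tm (DerivedCategory.Q.map f) (𝟙 (DerivedCategory.Q.obj L)) ≫ (DTen.ε A).app (K', L) =
      (DTen.ε A).app (K, L) ≫ DerivedCategory.Q.map (f ▷ L) := by
  have h := ε_nat f (𝟙 L)
  erw [MonoidalCategory.whiskerLeft_id, Category.comp_id, CategoryTheory.Functor.map_id] at h
  exact h

lemma tm_glueL {A : Type u} [CommRing A] [DTen.HasLTen A] {a₀ a₁ a₂ a₃ b₀ b₁ : Dual.D A} {T T' U : Dual.D A}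
    (x₁ : a₀ ⟶ a₁) (x₂ : a₁ ⟶ a₂) (q : a₂ ⟶ a₃) (y : b₀ ⟶ b₁)
    {e' : (DTen.LTen₂ A).obj (a₃, b₁) ⟶ T} {e : (DTen.LTen₂ A).obj (a₂, b₁) ⟶ T'} {w : T' ⟶ T}
    (h : tm q (𝟙 b₁) ≫ e' = e ≫ w) (z : T ⟶ U) :
    tm (x₁ ≫ x₂ ≫ q) y ≫ e' ≫ z = tm (x₁ ≫ x₂) y ≫ e ≫ w ≫ z := by
  rw [← reassoc_of% h, reassoc_of% (tm_comp (A := A)), Category.comp_id, Category.assoc]

variable [DTen.HasLTen₃ R] [DTen.HasLTen₃ R']

/-- The common value of the two bracketings on complexes. -/
noncomputable def omega (A B C : DRing.Cx R') :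
    (DTen.LTen₃ R).obj ((DRing.restrictD φ).obj (DerivedCategory.Q.obj A),
      ((DRing.restrictD φ).obj (DerivedCategory.Q.obj B), (DRing.restrictD φ).obj (DerivedCategory.Q.obj C))) ⟶
      DerivedCategory.Q.obj ((DTen.resCx φ).obj (A ⊗ (B ⊗ C))) :=
  (DTen.LTen₃ R).map (Prod.mkHom ((DTen.resFactors φ).hom.app A)
      (Prod.mkHom ((DTen.resFactors φ).hom.app B) ((DTen.resFactors φ).hom.app C))) ≫
    (DTen.ε₃ R).app ((DTen.resCx φ).obj A, ((DTen.resCx φ).obj B, (DTen.resCx φ).obj C)) ≫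
    DerivedCategory.Q.map (((DTen.resCx φ).obj A ◁ DTen.resTenCx φ B C) ≫ DTen.resTenCx φ A (B ⊗ C))

lemma right_fac (A B C : DRing.Cx R') :
    tm (𝟙 _) ((DTen.resPF φ).app (DerivedCategory.Q.obj B, DerivedCategory.Q.obj C)) ≫
        (DTen.resPF φ).app (DerivedCategory.Q.obj A,
          (DTen.LTen₂ R').obj (DerivedCategory.Q.obj B, DerivedCategory.Q.obj C)) ≫
        (DRing.restrictD φ).map ((DTen.assocR R').app ((DTen.QQQ R').obj (A, (B, C))) ≫
          (DTen.ε₃ R').app (A, (B, C))) ≫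
        (DTen.resFactors φ).hom.app _ =
      (DTen.assocR R).app _ ≫ omega φ A B C := by
  have e := DTen.assocR_fac R' (A, (B, C))
  have e' := DTen.assocR_fac R ((DTen.resCx φ).obj A, ((DTen.resCx φ).obj B, (DTen.resCx φ).obj C))
  rw [e]
  dsimp only [DTen.βR, omega]
  erw [← (DTen.assocR R).naturality_assoc, reassoc_of% e']
  dsimp only [DTen.βR]
  rw [Functor.map_comp, Category.assoc]
  erw [← reassoc_of% (rpf_nat φ (𝟙 (DerivedCategory.Q.obj A)) ((DTen.ε R').app (B, C)))]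
  erw [rpf_fac φ A (B ⊗ C)]
  simp only [Category.assoc, Functor.map_comp]
  change tm (𝟙 _) _ ≫ tm _ _ ≫ tm _ _ ≫ _ =
    tm _ (tm _ _) ≫ tm _ _ ≫ _
  rw [reassoc_of% (tm_comp (A := R)), reassoc_of% (tm_comp (A := R)), reassoc_of% (tm_comp (A := R))]
  have h₁ := rpf_fac φ B C
  simp only [CategoryTheory.Functor.map_id, Category.id_comp, Category.assoc]
  erw [h₁, Category.comp_id]
  have h₂ := ε_natR ((DTen.resCx φ).obj A) (DTen.resTenCx φ B C)
  erw [← reassoc_of% h₂]
  erw [reassoc_of% (tm_comp (A := R))]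
  simp only [Category.comp_id, Category.assoc]
  rfl

set_option maxHeartbeats 1600000 in
lemma left_fac (A B C : DRing.Cx R') :
    tm ((DTen.resPF φ).app (DerivedCategory.Q.obj A, DerivedCategory.Q.obj B)) (𝟙 _) ≫
        (DTen.resPF φ).app ((DTen.LTen₂ R').obj (DerivedCategory.Q.obj A, DerivedCategory.Q.obj B),
          DerivedCategory.Q.obj C) ≫
        (DRing.restrictD φ).map ((DTen.assocL R').app ((DTen.QQQ R').obj (A, (B, C))) ≫
          (DTen.ε₃ R').app (A, (B, C))) ≫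
        (DTen.resFactors φ).hom.app _ =
      (DTen.assocL R).app _ ≫ omega φ A B C := by
  have e := DTen.assocL_fac R' (A, (B, C))
  have e' := DTen.assocL_fac R ((DTen.resCx φ).obj A, ((DTen.resCx φ).obj B, (DTen.resCx φ).obj C))
  rw [e]
  dsimp only [DTen.βL, omega]
  erw [← (DTen.assocL R).naturality_assoc, reassoc_of% e']
  dsimp only [DTen.βL]
  rw [Functor.map_comp, Category.assoc]
  erw [← reassoc_of% (rpf_nat φ ((DTen.ε R').app (A, B)) (𝟙 (DerivedCategory.Q.obj C)))]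
  rw [Functor.map_comp, Category.assoc]
  have hr := (DTen.resFactors φ).hom.naturality (α_ A B C).hom
  erw [hr]
  erw [reassoc_of% (rpf_fac φ (A ⊗ B) C)]
  simp only [Category.assoc, Functor.map_comp]
  conv_rhs => erw [← Functor.map_comp, ← Functor.map_comp, resTenCx_assoc φ A B C, Functor.map_comp, Functor.map_comp]
  change tm _ (𝟙 _) ≫ tm _ _ ≫ tm _ _ ≫ _ = tm (tm _ _) _ ≫ tm _ _ ≫ _
  rw [reassoc_of% (tm_comp (A := R)), reassoc_of% (tm_comp (A := R)), reassoc_of% (tm_comp (A := R))]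
  simp only [CategoryTheory.Functor.map_id, Category.id_comp, Category.assoc]
  erw [rpf_fac φ A B, Category.comp_id]
  exact tm_glueL _ _ _ _ (ε_natL (DTen.resTenCx φ A B) ((DTen.resCx φ).obj C)) _

variable [DTen.IsSymMonoidal R] [DTen.IsSymMonoidal R']

omit [DTen.HasLTen R] [DTen.HasResTen φ] [DTen.ResLegIso φ] [DTen.HasLTen₃ R] [DTen.IsSymMonoidal R] in
lemma associator_hom_assocR' (a b c : Dual.D R') :
    (DRing.restrictD φ).map (DTen.associator a b c).hom ≫
      (DRing.restrictD φ).map ((DTen.assocR R').app (a, (b, c))) =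
      (DRing.restrictD φ).map ((DTen.assocL R').app (a, (b, c))) := by
  rw [← Functor.map_comp, DTen.associator_hom_assocR]

/-- The two bracketings agree on complexes. -/
theorem rpf_assoc_Q (A B C : DRing.Cx R') (hA : KFlat (curriedTensor (ModuleCat.{u} R')) A)
    (hB : KFlat (curriedTensor (ModuleCat.{u} R')) B) :
    tm ((DTen.resPF φ).app (DerivedCategory.Q.obj A, DerivedCategory.Q.obj B)) (𝟙 _) ≫
        (DTen.resPF φ).app ((DTen.LTen₂ R').obj (DerivedCategory.Q.obj A, DerivedCategory.Q.obj B),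
          DerivedCategory.Q.obj C) ≫
        (DRing.restrictD φ).map (DTen.associator _ _ _).hom =
      (DTen.associator _ _ _).hom ≫
        tm (𝟙 _) ((DTen.resPF φ).app (DerivedCategory.Q.obj B, DerivedCategory.Q.obj C)) ≫
        (DTen.resPF φ).app (DerivedCategory.Q.obj A,
          (DTen.LTen₂ R').obj (DerivedCategory.Q.obj B, DerivedCategory.Q.obj C)) := by
  haveI : IsIso ((DTen.ε₃ R').app (A, (B, C))) :=
    (tenRes₃ R').isIso_totalLeftDerivedCounit (DTen.QQQ R') (X := (A, (B, C))) ⟨hA, hB⟩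
  let c := (DRing.restrictD φ).map ((DTen.assocR R').app ((DTen.QQQ R').obj (A, (B, C))) ≫
          (DTen.ε₃ R').app (A, (B, C))) ≫ (DTen.resFactors φ).hom.app _
  haveI : IsIso c := by dsimp only [c]; infer_instance
  refine (cancel_mono c).1 ?_
  simp only [c, Category.assoc]
  rw [right_fac φ A B C]
  simp only [Functor.map_comp, Category.assoc]
  erw [reassoc_of% (associator_hom_assocR' φ (DerivedCategory.Q.obj A) (DerivedCategory.Q.obj B) (DerivedCategory.Q.obj C))]
  erw [← Functor.map_comp_assoc, left_fac φ A B C, DTen.associator_hom_assocR_assoc]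

/-- Associativity of the comparison. -/
theorem rpf_assoc (a b c : Dual.D R') :
    tm ((DTen.resPF φ).app (a, b)) (𝟙 ((DRing.restrictD φ).obj c)) ≫
        (DTen.resPF φ).app ((DTen.LTen₂ R').obj (a, b), c) ≫
        (DRing.restrictD φ).map (DTen.associator a b c).hom =
      (DTen.associator _ _ _).hom ≫ tm (𝟙 _) ((DTen.resPF φ).app (b, c)) ≫
        (DTen.resPF φ).app (a, (DTen.LTen₂ R').obj (b, c)) := by
  let ea := flatRepIso a
  let eb := flatRepIso b
  let ec := DerivedCategory.Q.objObjPreimageIso c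
  have h := rpf_assoc_Q φ (flatRep a) (flatRep b) (DerivedCategory.Q.objPreimage c)
    (kFlat_ringRes _) (kFlat_ringRes _)
  let r := DRing.restrictD φ
  haveI : IsIso (Prod.mkHom (r.map ea.hom) (r.map eb.hom)) :=
    (isIso_prod_iff _ _).2 ⟨inferInstance, inferInstance⟩
  haveI : IsIso (Prod.mkHom (tm (r.map ea.hom) (r.map eb.hom)) (r.map ec.hom)) :=
    (isIso_prod_iff _ _).2 ⟨inferInstance, inferInstance⟩
  refine (cancel_epi (tm (tm (r.map ea.hom) (r.map eb.hom)) (r.map ec.hom))).1 ?_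
  dsimp only [r]
  rw [reassoc_of% (tm_comp (A := R)), rpf_nat φ ea.hom eb.hom, Category.comp_id]
  conv_lhs => rw [← Category.id_comp ((DRing.restrictD φ).map ec.hom), ← tm_comp, Category.assoc]
  rw [reassoc_of% (rpf_nat φ (tm ea.hom eb.hom) ec.hom), ← Functor.map_comp]
  erw [associator_naturality ea.hom eb.hom ec.hom]
  rw [Functor.map_comp, reassoc_of% h]
  erw [← rpf_nat φ ea.hom (tm eb.hom ec.hom)]
  erw [reassoc_of% (associator_naturality ((DRing.restrictD φ).map ea.hom) ((DRing.restrictD φ).map eb.hom)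
    ((DRing.restrictD φ).map ec.hom))]
  change _ ≫ tm _ _ ≫ tm _ _ ≫ _ = _ ≫ tm _ (tm _ _) ≫ tm _ _ ≫ _
  rw [reassoc_of% (tm_comp (A := R)), reassoc_of% (tm_comp (A := R))]
  rw [Category.id_comp, Category.comp_id]
  erw [rpf_nat φ eb.hom ec.hom]

end Groth.Agent.EvalBC7
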