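import Groth.Agent.H9Misc.DRingExactPairing
import Groth.Prelude.Def_DTen5

/-!
# The lax monoidal comparison of restriction of complexes is associative
-/

set_option linter.style.haveILetI false
set_option backward.isDefEq.respectTransparency false

universe u

open CategoryTheory CategoryTheory.Limits MonoidalCategory
open Groth.Agent.H9Misc DRingHomTensor DRingExactPairing

namespace Groth.Agent.EvalBC7

variable {R R' : Type u} [CommRing R] [CommRing R'] (φ : R →+* R')

/-- An element of a complex, viewed in its restriction. -/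
abbrev rx {Y : DRing.Cx R'} {p : ℤ} (x : Y.X p) : ((DTen.resCx φ).obj Y).X p := x

lemma resTenCx_pure (Y Y' : DRing.Cx R') (p q n : ℤ) (h : p + q = n) (x : Y.X p) (y : Y'.X q) :
    ((DTen.resTenCx φ Y Y').f n).hom
        (pure ((DTen.resCx φ).obj Y) ((DTen.resCx φ).obj Y') p q n h (rx φ x) (rx φ y)) =
      rx φ (pure Y Y' p q n h x y) := by
  have e := DTen.ι_resTenCx φ Y Y' p q n h
  have := ConcreteCategory.congr_hom e ((rx φ x) ⊗ₜ[R] (rx φ y))
  exact this

/-- Associativity of `resTenCx`. -/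
theorem resTenCx_assoc (A B C : DRing.Cx R') :
    (α_ ((DTen.resCx φ).obj A) ((DTen.resCx φ).obj B) ((DTen.resCx φ).obj C)).hom ≫
        ((DTen.resCx φ).obj A ◁ DTen.resTenCx φ B C) ≫ DTen.resTenCx φ A (B ⊗ C) =
      (DTen.resTenCx φ A B ▷ (DTen.resCx φ).obj C) ≫ DTen.resTenCx φ (A ⊗ B) C ≫
        (DTen.resCx φ).map (α_ A B C).hom := by
  refine HomologicalComplex.hom_ext _ _ fun n => ?_
  refine DRingHomTensor.hom_ext fun a r har w z => ?_
  have h2 : ∀ (p q : ℤ) (hpq : p + q = a) (x : ((DTen.resCx φ).obj A).X p)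
      (y : ((DTen.resCx φ).obj B).X q),
      (((α_ ((DTen.resCx φ).obj A) ((DTen.resCx φ).obj B) ((DTen.resCx φ).obj C)).hom ≫
        ((DTen.resCx φ).obj A ◁ DTen.resTenCx φ B C) ≫ DTen.resTenCx φ A (B ⊗ C)).f n).hom
          (pure ((DTen.resCx φ).obj A ⊗ (DTen.resCx φ).obj B) ((DTen.resCx φ).obj C) a r n har
            (pure ((DTen.resCx φ).obj A) ((DTen.resCx φ).obj B) p q a hpq x y) z) =
      (((DTen.resTenCx φ A B ▷ (DTen.resCx φ).obj C) ≫ DTen.resTenCx φ (A ⊗ B) C ≫
        (DTen.resCx φ).map (α_ A B C).hom).f n).hom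
          (pure ((DTen.resCx φ).obj A ⊗ (DTen.resCx φ).obj B) ((DTen.resCx φ).obj C) a r n har
            (pure ((DTen.resCx φ).obj A) ((DTen.resCx φ).obj B) p q a hpq x y) z) := by
    intro p q hpq x y
    have e₁ := assoc_pure (K := (DTen.resCx φ).obj A) (L := (DTen.resCx φ).obj B)
      (M := (DTen.resCx φ).obj C) p q r a (q + r) n hpq rfl har x y z
    have e₂ := whiskerLeft_pure (M := (DTen.resCx φ).obj A) (DTen.resTenCx φ B C) p (q + r) n (by omega) x
      (pure ((DTen.resCx φ).obj B) ((DTen.resCx φ).obj C) q r (q + r) rfl y z)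
    have e₃ := resTenCx_pure φ B C q r (q + r) rfl y z
    have e₄ := resTenCx_pure φ A (B ⊗ C) p (q + r) n (by omega) x (pure B C q r (q + r) rfl y z)
    have f₁ := whiskerRight_pure (M := (DTen.resCx φ).obj C) (DTen.resTenCx φ A B) a r n har
      (pure ((DTen.resCx φ).obj A) ((DTen.resCx φ).obj B) p q a hpq x y) z
    have f₂ := resTenCx_pure φ A B p q a hpq x y
    have f₃ := resTenCx_pure φ (A ⊗ B) C a r n har (pure A B p q a hpq x y) z
    have f₄ := assoc_pure (K := A) (L := B) (M := C) p q r a (q + r) n hpq rfl har x y z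
    refine Eq.trans (b := rx φ (pure A (B ⊗ C) p (q + r) n (by omega) x
      (pure B C q r (q + r) rfl y z))) ?_ ?_
    · refine Eq.trans (congrArg (fun w => ((DTen.resTenCx φ A (B ⊗ C)).f n).hom
        ((((DTen.resCx φ).obj A ◁ DTen.resTenCx φ B C).f n).hom w)) e₁) ?_
      refine Eq.trans (congrArg ((DTen.resTenCx φ A (B ⊗ C)).f n).hom e₂) ?_
      exact (congrArg (fun w => ((DTen.resTenCx φ A (B ⊗ C)).f n).hom
        (pure ((DTen.resCx φ).obj A) ((DTen.resCx φ).obj (B ⊗ C)) p (q + r) n (by omega) x w)) e₃).trans e₄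
    · refine Eq.symm (Eq.trans (congrArg (fun w => (((DTen.resCx φ).map (α_ A B C).hom).f n).hom
        (((DTen.resTenCx φ (A ⊗ B) C).f n).hom w)) f₁) ?_)
      refine Eq.trans (congrArg (fun w => (((DTen.resCx φ).map (α_ A B C).hom).f n).hom
        (((DTen.resTenCx φ (A ⊗ B) C).f n).hom
          (pure ((DTen.resCx φ).obj (A ⊗ B)) ((DTen.resCx φ).obj C) a r n har w z))) f₂) ?_
      exact (congrArg (((DTen.resCx φ).map (α_ A B C).hom).f n).hom f₃).trans f₄
  exact LinearMap.congr_fun (congrArg ModuleCat.Hom.hom (DRingHomTensor.hom_ext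
    (f := ModuleCat.ofHom ((((α_ ((DTen.resCx φ).obj A) ((DTen.resCx φ).obj B) ((DTen.resCx φ).obj C)).hom ≫
      ((DTen.resCx φ).obj A ◁ DTen.resTenCx φ B C) ≫ DTen.resTenCx φ A (B ⊗ C)).f n).hom.comp
        ((pure ((DTen.resCx φ).obj A ⊗ (DTen.resCx φ).obj B) ((DTen.resCx φ).obj C) a r n har).flip z)))
    (g := ModuleCat.ofHom ((((DTen.resTenCx φ A B ▷ (DTen.resCx φ).obj C) ≫ DTen.resTenCx φ (A ⊗ B) C ≫
      (DTen.resCx φ).map (α_ A B C).hom).f n).hom.comp
        ((pure ((DTen.resCx φ).obj A ⊗ (DTen.resCx φ).obj B) ((DTen.resCx φ).obj C) a r n har).flip z)))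
    h2)) w

end Groth.Agent.EvalBC7
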