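import Groth.Agent.EvalBC7.Symm
import Groth.Agent.KFlatLib.Ring.BcRHom
import Groth.Agent.KFlatLib.Ring.BaseChangeSquare

/-!
# Base change for derived hom against the evaluation map of the algebra
-/

set_option linter.style.haveILetI false
set_option backward.isDefEq.respectTransparency false

universe u

open CategoryTheory CategoryTheory.Limits MonoidalCategory
open Groth.Agent.KFlatLib

attribute [local instance] HasDerivedCategory.standard

namespace Groth.Agent.EvalBC7

variable {R R' : Type u} [CommRing R] [CommRing R'] (φ : R →+* R')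
  [DTen.HasLTen R] [DTen.HasLTen R'] [DTen.HasResTen φ] [DTen.ResLegIso φ] [DTen.HasLBase φ]
  [DTen.HasLTen₃ R] [DTen.IsSymMonoidal R] [DTen.HasLTen₃ R'] [DTen.IsSymMonoidal R']
  [DTen.HasRHom R] [DTen.HasRHom R']

/-- The evaluation map out of the restriction of `a` is the base change map, up to the projection formula. -/
theorem evalTen_bcRHom (a : Dual.D R') (K N : Dual.D R)
    [IsIso (DTen.rhomBC φ N ((DTen.LBase φ).obj K))] :
    DTen.evalTen ((DRing.restrictD φ).obj a) K N ≫ (DTen.RHomR R N).map (DTen.projPF φ a K) =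
      DTen.projPF φ a ((DTen.RHomR R N).obj K) ≫
        (DRing.restrictD φ).map (tm (𝟙 a) (DTen.bcRHom φ N K) ≫
          DTen.evalTen a ((DTen.LBase φ).obj K) ((DTen.LBase φ).obj N)) ≫
        DTen.rhomBC φ N ((DTen.LTen₂ R').obj (a, (DTen.LBase φ).obj K)) := by
  let r := DRing.restrictD φ
  let H := (DTen.RHomR R N).obj K
  refine (DTen.rhomHomEquiv _ _ _).symm.injective ?_
  let H' := (DTen.RHomR R' ((DTen.LBase φ).obj N)).obj ((DTen.LBase φ).obj K)
  let u := fun Z => (DTen.baseAdj φ).unit.app Z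
  have hl : (DTen.rhomHomEquiv _ _ _).symm (DTen.evalTen (r.obj a) K N ≫
      (DTen.RHomR R N).map (DTen.projPF φ a K)) =
      (DTen.associator _ _ _).hom ≫ tm (𝟙 _) (DTen.ev N K) ≫ DTen.projPF φ a K := by
    refine ((DTen.rhomAdj R N).homEquiv_naturality_right_symm _ _).trans ?_
    refine (congrArg (· ≫ _) (Equiv.symm_apply_apply _ _)).trans ?_
    exact Category.assoc _ _ _
  let X := tm (𝟙 a) (DTen.bcRHom φ N K) ≫
      DTen.evalTen a ((DTen.LBase φ).obj K) ((DTen.LBase φ).obj N)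
  let w := tm (DTen.bcRHom φ N K) (𝟙 ((DTen.LBase φ).obj N)) ≫ DTen.ev _ _
  have hX : tm X (𝟙 _) ≫ DTen.ev _ _ = (DTen.associator _ _ _).hom ≫ tm (𝟙 a) w := by
    refine ((DTen.rhomAdj R' _).homEquiv_counit ..).symm.trans ?_
    refine ((DTen.rhomAdj R' _).homEquiv_naturality_left_symm _ _).trans ?_
    refine (congrArg (_ ≫ ·) (Equiv.symm_apply_apply _ _)).trans ?_
    dsimp only [DTen.evalTenAux, w]
    erw [reassoc_of% (associator_naturality (𝟙 a) (DTen.bcRHom φ N K) (𝟙 ((DTen.LBase φ).obj N)))]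
    refine congrArg (_ ≫ ·) ?_
    erw [tm_comp, Category.id_comp]
  have hr : (DTen.rhomHomEquiv _ _ _).symm (DTen.projPF φ a H ≫ r.map X ≫
      DTen.rhomBC φ N ((DTen.LTen₂ R').obj (a, (DTen.LBase φ).obj K))) =
      tm (DTen.projPF φ a H ≫ r.map X) (𝟙 N) ≫ DTen.rhomBCCore φ N _ := by
    rw [← Category.assoc]
    refine ((DTen.rhomAdj R N).homEquiv_naturality_left_symm _ _).trans ?_
    exact congrArg (_ ≫ ·) (Equiv.symm_apply_apply _ _)
  have hu : tm (u H) (u N) ≫ (DTen.resPF φ).app ((DTen.LBase φ).obj H, (DTen.LBase φ).obj N) ≫ r.map w =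
      DTen.ev N K ≫ u K := by
    have e := lbaseTenCmp_bcRHom (φ := φ) N K
    have e₀ : tm (u H) (u N) ≫ (DTen.resPF φ).app ((DTen.LBase φ).obj H, (DTen.LBase φ).obj N) =
        u ((DTen.LTen₂ R).obj (H, N)) ≫ r.map (lbaseTenCmp φ H N) :=
      ((DTen.baseAdj φ).homEquiv _ _).apply_symm_apply _ |>.symm.trans ((DTen.baseAdj φ).homEquiv_unit ..)
    have ew : (DTen.rhomHomEquiv _ _ _).symm (DTen.bcRHom φ N K) = w :=
      (DTen.rhomAdj R' _).homEquiv_counit ..
    rw [reassoc_of% e₀, ← Functor.map_comp, ← ew, e]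
    exact ((DTen.baseAdj φ).unit.naturality (DTen.ev N K)).symm
  refine hl.trans (Eq.trans ?_ hr.symm)
  dsimp only [DTen.projPF, DTen.rhomBCCore]
  rw [← Category.assoc (tm _ (𝟙 N))]
  erw [tm_comp, Category.comp_id, Category.id_comp]
  have hs : tm (tm (𝟙 (r.obj a)) (u H) ≫ (DTen.resPF φ).app (a, (DTen.LBase φ).obj H) ≫ r.map X) (u N) =
      tm (tm (𝟙 (r.obj a)) (u H)) (u N) ≫
        tm ((DTen.resPF φ).app (a, (DTen.LBase φ).obj H)) (𝟙 (r.obj ((DTen.LBase φ).obj N))) ≫
        tm (r.map X) (r.map (𝟙 ((DTen.LBase φ).obj N))) := by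
    rw [tm_comp, tm_comp, CategoryTheory.Functor.map_id]
    erw [Category.comp_id]
  simp only [Category.assoc]
  erw [hs]
  simp only [Category.assoc]
  erw [reassoc_of% (rpf_nat φ X (𝟙 ((DTen.LBase φ).obj N))), ← Functor.map_comp, hX, Functor.map_comp,
    reassoc_of% (rpf_assoc φ a ((DTen.LBase φ).obj H) ((DTen.LBase φ).obj N)),
    ← rpf_nat φ (𝟙 a) w, reassoc_of% (associator_naturality (𝟙 (r.obj a)) (u H) (u N))]
  rw [CategoryTheory.Functor.map_id, reassoc_of% (tm_comp (A := R)), reassoc_of% (tm_comp (A := R)),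
    reassoc_of% (tm_comp (A := R))]
  refine congrArg₂ (fun z z' => (DTen.associator _ _ _).hom ≫ tm z z' ≫ _) ?_ ?_
  · erw [Category.id_comp]
  · exact hu.symm.trans (Category.assoc _ _ _).symm

/-- Base change for derived hom is invertible exactly when evaluation out of the algebra is. -/
theorem isIso_bcRHom_iff (K N : Dual.D R) [IsIso (DTen.rhomBC φ N ((DTen.LBase φ).obj K))] :
    IsIso (DTen.bcRHom φ N K) ↔
      IsIso (DTen.evalTen ((DRing.restrictD φ).obj (DTen.unit R')) K N) := by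
  let O := DTen.unit R'
  let H := (DTen.RHomR R N).obj K
  haveI : ((DTen.LTen R').obj O).IsEquivalence :=
    Functor.isEquivalence_of_iso (NatIso.ofComponents (fun L => (DTen.leftUnitor L).symm)
      (fun {X Y} f => by
        have h := (asIso (DTen.unitL R')).inv.naturality f
        exact h) : 𝟭 (Dual.D R') ≅ (DTen.LTen R').obj O)
  haveI : IsIso (DTen.evalTen O ((DTen.LBase φ).obj K) ((DTen.LBase φ).obj N)) :=
    isIso_evalTen_of_isEquivalence _ _ _
  haveI := isIso_projPF φ O K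
  haveI := isIso_projPF φ O H
  haveI := isIso_rhomBC φ N ((DTen.LTen₂ R').obj (O, (DTen.LBase φ).obj K))
  have e := evalTen_bcRHom φ O K N
  constructor
  · intro h
    haveI : IsIso (tm (𝟙 O) (DTen.bcRHom φ N K)) :=
      inferInstanceAs (IsIso (((DTen.LTen R').obj O).map (DTen.bcRHom φ N K)))
    haveI : IsIso (DTen.evalTen ((DRing.restrictD φ).obj O) K N ≫
        (DTen.RHomR R N).map (DTen.projPF φ O K)) := by
      rw [e]; infer_instance
    exact IsIso.of_isIso_comp_right _ ((DTen.RHomR R N).map (DTen.projPF φ O K))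
  · intro h
    haveI h₁ : IsIso (DTen.projPF φ O H ≫ (DRing.restrictD φ).map (tm (𝟙 O) (DTen.bcRHom φ N K) ≫
        DTen.evalTen O ((DTen.LBase φ).obj K) ((DTen.LBase φ).obj N)) ≫
        DTen.rhomBC φ N ((DTen.LTen₂ R').obj (O, (DTen.LBase φ).obj K))) := by
      rw [← e]; infer_instance
    haveI h₂ := IsIso.of_isIso_comp_left (DTen.projPF φ O H) ((DRing.restrictD φ).map (tm (𝟙 O) (DTen.bcRHom φ N K) ≫
        DTen.evalTen O ((DTen.LBase φ).obj K) ((DTen.LBase φ).obj N)) ≫
        DTen.rhomBC φ N ((DTen.LTen₂ R').obj (O, (DTen.LBase φ).obj K)))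
    haveI h₃ := IsIso.of_isIso_comp_right ((DRing.restrictD φ).map (tm (𝟙 O) (DTen.bcRHom φ N K) ≫
        DTen.evalTen O ((DTen.LBase φ).obj K) ((DTen.LBase φ).obj N)))
        (DTen.rhomBC φ N ((DTen.LTen₂ R').obj (O, (DTen.LBase φ).obj K)))
    haveI := isIso_of_isIso_restrict φ (tm (𝟙 O) (DTen.bcRHom φ N K) ≫
        DTen.evalTen O ((DTen.LBase φ).obj K) ((DTen.LBase φ).obj N))
    haveI := IsIso.of_isIso_comp_right (tm (𝟙 O) (DTen.bcRHom φ N K))
        (DTen.evalTen O ((DTen.LBase φ).obj K) ((DTen.LBase φ).obj N))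
    haveI : IsIso (((DTen.LTen R').obj O).map (DTen.bcRHom φ N K)) := this
    exact isIso_of_reflects_iso _ ((DTen.LTen R').obj O)

end Groth.Agent.EvalBC7
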