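import Groth.Agent.EvalBC7.Assoc
import Groth.Agent.KFlatLib.Ring.ProjPair

/-!
# The comparison is symmetric; the projection formula on the other side
-/

set_option linter.style.haveILetI false
set_option backward.isDefEq.respectTransparency false

universe u

open CategoryTheory CategoryTheory.Limits MonoidalCategory
open Groth.Agent.KFlatLib Groth.Agent.H9Misc DRingHomTensor

attribute [local instance] HasDerivedCategory.standard

namespace Groth.Agent.EvalBC7

lemma braidCx_pure {A : Type u} [CommRing A] (K L : DRing.Cx A) (p q n : ℤ) (h : p + q = n)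
    (x : K.X p) (y : L.X q) :
    ((DTen.braidCx K L).hom.f n).hom (pure K L p q n h x y) =
      (p * q).negOnePow • pure L K q p n (by omega) y x :=
  ConcreteCategory.congr_hom (DTen.ι_braidCx_hom K L p q n h) (x ⊗ₜ[A] y)

variable {R R' : Type u} [CommRing R] [CommRing R'] (φ : R →+* R')

lemma resTenCx_braid (B A : DRing.Cx R') :
    (DTen.braidCx ((DTen.resCx φ).obj B) ((DTen.resCx φ).obj A)).hom ≫ DTen.resTenCx φ A B =
      DTen.resTenCx φ B A ≫ (DTen.resCx φ).map (DTen.braidCx B A).hom := by
  refine HomologicalComplex.hom_ext _ _ fun n => DRingHomTensor.hom_ext fun p q hpq x y => ?_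
  simp only [HomologicalComplex.comp_f, ModuleCat.hom_comp, LinearMap.comp_apply]
  have e₁ := braidCx_pure ((DTen.resCx φ).obj B) ((DTen.resCx φ).obj A) p q n hpq x y
  have e₂ := resTenCx_pure φ A B q p n (by omega) y x
  have e₃ := resTenCx_pure φ B A p q n hpq x y
  have e₄ := braidCx_pure B A p q n hpq x y
  refine (congrArg ((DTen.resTenCx φ A B).f n).hom e₁).trans ?_
  refine Eq.trans ?_ ((congrArg (((DTen.resCx φ).map (DTen.braidCx B A).hom).f n).hom e₃).trans e₄).symm
  rw [Units.smul_def, Units.smul_def, map_zsmul]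
  exact congrArg _ e₂

variable [DTen.HasLTen R] [DTen.HasLTen R'] [DTen.HasResTen φ] [DTen.ResLegIso φ]

/-- Symmetry of the comparison. -/
theorem rpf_symm (a b : Dual.D R') :
    (DTen.symm R).app ((DRing.restrictD φ).obj a, (DRing.restrictD φ).obj b) ≫ (DTen.resPF φ).app (a, b) =
      (DTen.resPF φ).app (b, a) ≫ (DRing.restrictD φ).map ((DTen.symm R').app (a, b)) := by
  suffices h : ∀ (A B : DRing.Cx R'), KFlat (curriedTensor (ModuleCat.{u} R')) A →
      (DTen.symm R).app ((DRing.restrictD φ).obj (DerivedCategory.Q.obj A),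
          (DRing.restrictD φ).obj (DerivedCategory.Q.obj B)) ≫
          (DTen.resPF φ).app (DerivedCategory.Q.obj A, DerivedCategory.Q.obj B) =
        (DTen.resPF φ).app (DerivedCategory.Q.obj B, DerivedCategory.Q.obj A) ≫
          (DRing.restrictD φ).map ((DTen.symm R').app (DerivedCategory.Q.obj A, DerivedCategory.Q.obj B)) by
    let ea := flatRepIso a
    let eb := DerivedCategory.Q.objObjPreimageIso b
    have h₀ := h (flatRep a) (DerivedCategory.Q.objPreimage b) (kFlat_ringRes _)
    haveI : IsIso (Prod.mkHom ((DRing.restrictD φ).map eb.hom) ((DRing.restrictD φ).map ea.hom)) :=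
      (isIso_prod_iff _ _).2 ⟨inferInstance, inferInstance⟩
    refine (cancel_epi (tm ((DRing.restrictD φ).map eb.hom) ((DRing.restrictD φ).map ea.hom))).1 ?_
    have n₁ : tm ((DRing.restrictD φ).map eb.hom) ((DRing.restrictD φ).map ea.hom) ≫
        (DTen.symm R).app ((DRing.restrictD φ).obj a, (DRing.restrictD φ).obj b) =
        (DTen.symm R).app _ ≫ tm ((DRing.restrictD φ).map ea.hom) ((DRing.restrictD φ).map eb.hom) :=
      (DTen.symm R).naturality (Prod.mkHom ((DRing.restrictD φ).map ea.hom) ((DRing.restrictD φ).map eb.hom))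
    have n₂ : tm eb.hom ea.hom ≫ (DTen.symm R').app (a, b) =
        (DTen.symm R').app _ ≫ tm ea.hom eb.hom :=
      (DTen.symm R').naturality (Prod.mkHom ea.hom eb.hom)
    erw [reassoc_of% n₁, rpf_nat φ ea.hom eb.hom, reassoc_of% h₀, reassoc_of% (rpf_nat φ eb.hom ea.hom)]
    rw [← Functor.map_comp, ← Functor.map_comp, n₂]
  intro A B hA
  haveI : IsIso ((DTen.ε R').app (A, B)) := isIso_ε hA B
  let c := (DRing.restrictD φ).map ((DTen.ε R').app (A, B)) ≫ (DTen.resFactors φ).hom.app _
  haveI : IsIso c := by dsimp only [c]; infer_instance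
  refine (cancel_mono c).1 ?_
  dsimp only [c]
  simp only [Category.assoc]
  erw [rpf_fac φ A B]
  have n₁ : tm ((DTen.resFactors φ).hom.app B) ((DTen.resFactors φ).hom.app A) ≫
      (DTen.symm R).app (DerivedCategory.Q.obj ((DTen.resCx φ).obj A), DerivedCategory.Q.obj ((DTen.resCx φ).obj B)) =
      (DTen.symm R).app _ ≫ tm ((DTen.resFactors φ).hom.app A) ((DTen.resFactors φ).hom.app B) :=
    (DTen.symm R).naturality (Prod.mkHom ((DTen.resFactors φ).hom.app A) ((DTen.resFactors φ).hom.app B))
  erw [← reassoc_of% n₁, reassoc_of% (DTen.symm_fac R ((DTen.resCx φ).obj A) ((DTen.resCx φ).obj B))]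
  rw [← Functor.map_comp_assoc, DTen.symm_fac R' A B, Functor.map_comp, Category.assoc]
  have hr := (DTen.resFactors φ).hom.naturality (DTen.braidCx B A).hom
  erw [hr, reassoc_of% (rpf_fac φ B A)]
  erw [← Functor.map_comp, ← Functor.map_comp, resTenCx_braid φ B A]

variable [DTen.HasLBase φ] [DTen.HasLTen₃ R] [DTen.IsSymMonoidal R] [DTen.HasLTen₃ R'] [DTen.IsSymMonoidal R']

/-- The projection formula. -/
theorem isIso_projPF (a : Dual.D R') (X : Dual.D R) : IsIso (DTen.projPF φ a X) := by
  haveI := isIso_piD φ X a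
  haveI : IsIso ((DTen.symm R).app ((DRing.restrictD φ).obj a, X)) := inferInstance
  haveI : IsIso ((DTen.symm R').app (a, (DTen.LBase φ).obj X)) := inferInstance
  haveI : IsIso ((DTen.symm R).app ((DRing.restrictD φ).obj a, X) ≫ DTen.projPF φ a X) := by
    have n₁ : tm ((DTen.baseAdj φ).unit.app X) (𝟙 ((DRing.restrictD φ).obj a)) ≫
        (DTen.symm R).app ((DRing.restrictD φ).obj a, (DRing.restrictD φ).obj ((DTen.LBase φ).obj X)) =
        (DTen.symm R).app ((DRing.restrictD φ).obj a, X) ≫
          tm (𝟙 ((DRing.restrictD φ).obj a)) ((DTen.baseAdj φ).unit.app X) :=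
      (DTen.symm R).naturality (Prod.mkHom (𝟙 ((DRing.restrictD φ).obj a)) ((DTen.baseAdj φ).unit.app X))
    have e : (DTen.symm R).app ((DRing.restrictD φ).obj a, X) ≫ DTen.projPF φ a X =
        piD φ X a ≫ (DRing.restrictD φ).map ((DTen.symm R').app (a, (DTen.LBase φ).obj X)) := by
      dsimp only [DTen.projPF, piD]
      erw [← reassoc_of% n₁, rpf_symm φ a ((DTen.LBase φ).obj X)]
      exact (Category.assoc _ _ _).symm
    rw [e]
    infer_instance
  exact IsIso.of_isIso_comp_left ((DTen.symm R).app ((DRing.restrictD φ).obj a, X)) _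

end Groth.Agent.EvalBC7
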